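import Groth.Prelude.Def_ModSite
import Groth.Agent.Lib.Modules.ToSheaf
import Mathlib.Algebra.Category.ModuleCat.Stalk
import Mathlib.Algebra.Category.ModuleCat.Presheaf.Generator
import Mathlib.Topology.Sheaves.Abelian
import Mathlib.Topology.Sheaves.Sheafify

/-!
# Stalks of sheaves of modules on a ringed space

For a space `T` with a sheaf of commutative rings `O`:
* `stk O x : Mod O ⥤ ModuleCat O_x`, exact, colimit preserving, jointly conservative;
* `gen O U = j_! O_U`, `genHomEquiv`, `isSeparating_gen`, and its stalks.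
-/

universe u

open CategoryTheory Limits Opposite TopologicalSpace

namespace Groth.Agent.Lib.RingedMod.Stalk

variable {T : TopCat.{u}} (O : TopCat.Sheaf CommRingCat.{u} T)

/-- Presheaves of modules. -/
abbrev PM : Type (u + 1) := PresheafOfModules.{u} (O.obj ⋙ forget₂ CommRingCat RingCat.{u})

/-- Sheaves of modules. -/
abbrev MD : Type (u + 1) := ModSite.Mod (C := Opens T) O

/-- The stalk of the structure sheaf. -/
abbrev Ox (x : T) : Type u := ↑(TopCat.Presheaf.stalk O.obj x)

/-- The sections of the structure sheaf, as scalars. -/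
abbrev RU (U : Opens T) : Type u := ↑((O.obj ⋙ forget₂ CommRingCat RingCat.{u}).obj (op U))

variable {O}

/-- The stalk of a presheaf of modules. -/
abbrev st (x : T) (P : PM O) : Type u := ↑(TopCat.Presheaf.stalk P.presheaf x)

noncomputable instance moduleSt (x : T) (P : PM O) : Module (Ox O x) (st x P) :=
  inferInstanceAs (Module ↑(TopCat.Presheaf.stalk (C := CommRingCat.{u}) O.obj x) ↑(TopCat.Presheaf.stalk
    (PresheafOfModules.presheaf (R := O.obj ⋙ forget₂ CommRingCat RingCat) P) x))

variable {x : T}

/-- The germ of a section. -/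
noncomputable abbrev germ {P : PM O} {U : Opens T} (hx : x ∈ U) (p : P.obj (op U)) : st x P :=
  TopCat.Presheaf.germ P.presheaf U x hx p

/-- The germ of a scalar. -/
noncomputable abbrev rgerm {U : Opens T} (hx : x ∈ U) (r : RU O U) : Ox O x :=
  TopCat.Presheaf.germ O.obj U x hx (show O.obj.obj (op U) from r)

/-- Restriction of sections. -/
noncomputable abbrev res (P : PM O) {U V : Opens T} (h : V ≤ U) (p : P.obj (op U)) : P.obj (op V) :=
  P.map (homOfLE h).op p

/-- Restriction of scalars. -/
noncomputable abbrev resR {U V : Opens T} (h : V ≤ U) (r : RU O U) : RU O V :=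
  (O.obj.map (homOfLE h).op r :)

variable {P Q : PM O}

lemma germ_smul {U : Opens T} (hx : x ∈ U) (r : RU O U) (p : P.obj (op U)) :
    germ hx (r • p) = rgerm hx r • germ hx p :=
  PresheafOfModules.germ_smul (R := O.obj) P x U hx r p

lemma germ_res {U V : Opens T} (h : V ≤ U) (hx : x ∈ V) (p : P.obj (op U)) :
    germ hx (res P h p) = germ (h hx) p :=
  TopCat.Presheaf.germ_res_apply P.presheaf (homOfLE h) x hx p

lemma rgerm_res {U V : Opens T} (h : V ≤ U) (hx : x ∈ V) (r : RU O U) :
    rgerm hx (resR h r) = rgerm (h hx) r :=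
  TopCat.Presheaf.germ_res_apply O.obj (homOfLE h) x hx _

lemma res_smul {U V : Opens T} (h : V ≤ U) (r : RU O U) (p : P.obj (op U)) :
    res P h (r • p) = resR h r • res P h p :=
  P.map_smul (homOfLE h).op r p

lemma exists_germ (a : st x P) : ∃ (U : Opens T) (hx : x ∈ U) (p : P.obj (op U)), germ hx p = a :=
  TopCat.Presheaf.exists_germ_eq P.presheaf a

lemma exists_rgerm (c : Ox O x) (a : st x P) :
    ∃ (U : Opens T) (hx : x ∈ U) (r : RU O U) (p : P.obj (op U)), rgerm hx r = c ∧ germ hx p = a := by
  obtain ⟨U, hU, p, rfl⟩ := exists_germ a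
  obtain ⟨W, hW, r, rfl⟩ := TopCat.Presheaf.exists_germ_eq O.obj c
  exact ⟨U ⊓ W, ⟨hU, hW⟩, resR inf_le_right r, res P inf_le_left p, rgerm_res _ _ _, germ_res _ _ _⟩

/-- The map on stalks of a morphism of presheaves of modules. -/
noncomputable def stMap (f : P ⟶ Q) : st x P →ₗ[Ox O x] st x Q where
  toFun v := (TopCat.Presheaf.stalkFunctor AddCommGrpCat.{u} x).map ((PresheafOfModules.toPresheaf _).map f) v
  map_add' := map_add _
  map_smul' c v := by
    obtain ⟨U, hU, r, p, rfl, rfl⟩ := exists_rgerm c v
    rw [RingHom.id_apply, ← germ_smul]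
    refine (TopCat.Presheaf.stalkFunctor_map_germ_apply U x hU _ _).trans ?_
    refine ((congrArg (germ (P := Q) hU) ((f.app (op U)).hom.map_smul r p)).trans (germ_smul hU r _)).trans ?_
    exact congrArg (rgerm hU r • ·) (TopCat.Presheaf.stalkFunctor_map_germ_apply U x hU
      ((PresheafOfModules.toPresheaf _).map f) p).symm

lemma stMap_germ (f : P ⟶ Q) {U : Opens T} (hx : x ∈ U) (p : P.obj (op U)) :
    stMap f (germ hx p) = germ hx (f.app (op U) p) :=
  TopCat.Presheaf.stalkFunctor_map_germ_apply U x hx ((PresheafOfModules.toPresheaf _).map f) p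

lemma stMap_comp {R : PM O} (f : P ⟶ Q) (g : Q ⟶ R) (z : st x P) :
    stMap (f ≫ g) z = stMap g (stMap f z) := by
  obtain ⟨U, hU, p, rfl⟩ := exists_germ z
  simp only [stMap_germ]
  rfl

lemma stMap_id (z : st x P) : stMap (𝟙 P) z = z := by
  obtain ⟨U, hU, p, rfl⟩ := exists_germ z
  rw [stMap_germ]
  rfl

variable (O)

/-- The forgetful functor to presheaves of modules. -/
noncomputable abbrev toP : MD O ⥤ PM O := SheafOfModules.forget (ModSite.ringSh (C := Opens T) O)

/-- Sheafification. -/
noncomputable abbrev shP : PM O ⥤ MD O := ModSite.sheafify (C := Opens T) O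

/-- Sheafification is left adjoint to the forgetful functor. -/
noncomputable def adj : shP O ⊣ toP O :=
  PresheafOfModules.sheafificationAdjunction.{u} (R := ModSite.ringSh (C := Opens T) O) (𝟙 _)

/-- The stalk of a sheaf of modules, as a functor to modules over the stalk of `O`. -/
noncomputable def stk (x : T) : MD O ⥤ ModuleCat.{u} (Ox O x) where
  obj M := ModuleCat.of _ (st x ((toP O).obj M))
  map φ := ModuleCat.ofHom (stMap ((toP O).map φ))
  map_id M := by
    ext v
    exact stMap_id v
  map_comp φ ψ := by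
    ext v
    exact stMap_comp _ _ v

/-- The underlying abelian sheaf. -/
noncomputable abbrev toAbSh : MD O ⥤ TopCat.Sheaf AddCommGrpCat.{u} T :=
  SheafOfModules.toSheaf (ModSite.ringSh (C := Opens T) O)

instance toAbSh_preservesFiniteLimits : PreservesFiniteLimits (toAbSh O) :=
  inferInstanceAs (PreservesFiniteLimits (SheafOfModules.toSheaf.{u} (ModSite.ringSh (C := Opens T) O)))

instance toAbSh_reflectsIsomorphisms : (toAbSh O).ReflectsIsomorphisms :=
  inferInstanceAs (SheafOfModules.toSheaf.{u} (ModSite.ringSh (C := Opens T) O)).ReflectsIsomorphisms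

instance toP_faithful : (toP O).Faithful :=
  inferInstanceAs (SheafOfModules.forget.{u} (ModSite.ringSh (C := Opens T) O)).Faithful

/-- The stalk functor to abelian groups. -/
noncomputable abbrev stkAb (x : T) : MD O ⥤ AddCommGrpCat.{u} :=
  toAbSh O ⋙ TopCat.Sheaf.forget AddCommGrpCat.{u} T ⋙ TopCat.Presheaf.stalkFunctor _ x

/-- Forgetting the module structure gives the stalk of the underlying abelian sheaf. -/
noncomputable def stkForgetIso (x : T) :
    stk O x ⋙ forget₂ (ModuleCat.{u} (Ox O x)) AddCommGrpCat.{u} ≅ stkAb O x :=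
  Iso.refl _

instance stkAb_preservesFiniteLimits (x : T) : PreservesFiniteLimits (stkAb O x) :=
  comp_preservesFiniteLimits _ _

instance stkAb_preservesColimits (x : T) : PreservesColimitsOfSize.{u, u} (stkAb O x) := by
  classical
  haveI : (TopCat.Sheaf.forget AddCommGrpCat.{u} T ⋙ TopCat.Presheaf.stalkFunctor _ x).IsLeftAdjoint :=
    (stalkSkyscraperSheafAdjunction x (C := AddCommGrpCat.{u})).isLeftAdjoint
  haveI : PreservesColimitsOfSize.{u, u} (toAbSh O) :=
    { preservesColimitsOfShape := fun {K} _ =>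
        inferInstanceAs (PreservesColimitsOfShape K
          (SheafOfModules.toSheaf.{u} (ModSite.ringSh (C := Opens T) O))) }
  exact comp_preservesColimits _ _

instance stk_preservesFiniteLimits (x : T) : PreservesFiniteLimits (stk O x) :=
  haveI : PreservesFiniteLimits (stk O x ⋙ forget₂ (ModuleCat.{u} (Ox O x)) AddCommGrpCat.{u}) :=
    preservesFiniteLimits_of_natIso (stkForgetIso O x).symm
  preservesFiniteLimits_of_reflects_of_preserves _ (forget₂ (ModuleCat.{u} (Ox O x)) AddCommGrpCat.{u})

instance stk_preservesColimits (x : T) : PreservesColimitsOfSize.{u, u} (stk O x) :=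
  haveI : PreservesColimitsOfSize.{u, u} (stk O x ⋙ forget₂ (ModuleCat.{u} (Ox O x)) AddCommGrpCat.{u}) :=
    preservesColimits_of_natIso (stkForgetIso O x).symm
  haveI : ReflectsColimitsOfSize.{u, u} (forget₂ (ModuleCat.{u} (Ox O x)) AddCommGrpCat.{u}) :=
    reflectsColimits_of_reflectsIsomorphisms
  preservesColimits_of_reflects_of_preserves _ (forget₂ (ModuleCat.{u} (Ox O x)) AddCommGrpCat.{u})

instance stk_preservesFiniteColimits (x : T) : PreservesFiniteColimits (stk O x) :=
  PreservesColimits.preservesFiniteColimits _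

instance stk_additive (x : T) : (stk O x).Additive :=
  Functor.additive_of_preserves_binary_products _

variable {O}

/-- Morphisms are determined by their values on stalks. -/
lemma hom_ext_stk {M N : MD O} {f g : M ⟶ N} (h : ∀ x, (stk O x).map f = (stk O x).map g) : f = g := by
  apply (toP O).map_injective
  refine PresheafOfModules.hom_ext fun U => ModuleCat.hom_ext (LinearMap.ext fun s => ?_)
  refine TopCat.Presheaf.section_ext ((toAbSh O).obj N) U.unop _ _ fun y hy => ?_
  have := ConcreteCategory.congr_hom (h y) (germ (P := (toP O).obj M) hy s)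
  exact ((stMap_germ ((toP O).map f) hy s).symm.trans this).trans (stMap_germ ((toP O).map g) hy s)

lemma mono_iff_stk {M N : MD O} (f : M ⟶ N) : Mono f ↔ ∀ x, Mono ((stk O x).map f) := by
  refine ⟨fun _ _ => inferInstance, fun h => ?_⟩
  refine Preadditive.mono_of_cancel_zero _ fun {K} g hg => hom_ext_stk fun x => ?_
  haveI := h x
  rw [← cancel_mono ((stk O x).map f), ← Functor.map_comp, hg, Functor.map_zero,
    Functor.map_zero, zero_comp]

lemma isIso_iff_stk {M N : MD O} (f : M ⟶ N) : IsIso f ↔ ∀ x, IsIso ((stk O x).map f) := by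
  refine ⟨fun _ _ => inferInstance, fun h => ?_⟩
  haveI : IsIso ((toAbSh O).map f) :=
    (TopCat.Presheaf.isIso_iff_stalkFunctor_map_iso ((toAbSh O).map f)).mpr fun x =>
      inferInstanceAs (IsIso ((forget₂ (ModuleCat.{u} (Ox O x)) AddCommGrpCat.{u}).map ((stk O x).map f)))
  exact isIso_of_reflects_iso f (toAbSh O)

/-! ### Generators -/

/-- The presheaf generator. -/
noncomputable abbrev preGen (U : Opens T) : PM O :=
  (PresheafOfModules.free (O.obj ⋙ forget₂ CommRingCat RingCat.{u})).obj (yoneda.obj U)

/-- The generator `j_! O_U`. -/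
noncomputable def gen (U : Opens T) : MD O := (shP O).obj (preGen U)

/-- The unit of sheafification. -/
noncomputable def unitSh (P : PM O) : P ⟶ (toP O).obj ((shP O).obj P) := (adj O).unit.app P

lemma stMap_unitSh_bijective (x : T) (P : PM O) : Function.Bijective (stMap (x := x) (unitSh P)) := by
  have := TopCat.Presheaf.stalkFunctor_map_unit_toSheafify_isIso (X := T) x AddCommGrpCat.{u} P.presheaf
  exact (ConcreteCategory.isIso_iff_bijective _).1 this

/-- Sheafification preserves stalks. -/
noncomputable def shStalkEquiv (x : T) (P : PM O) :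
    st x P ≃ₗ[Ox O x] (stk O x).obj ((shP O).obj P) :=
  LinearEquiv.ofBijective (stMap (unitSh P)) (stMap_unitSh_bijective x P)

/-- `Hom(gen U, M) = Γ(U, M)`. -/
noncomputable def genHomEquiv (U : Opens T) (M : MD O) :
    (gen U ⟶ M) ≃ ((toP O).obj M).obj (op U) :=
  ((adj O).homEquiv _ M).trans PresheafOfModules.freeYonedaEquiv

lemma genHomEquiv_comp (U : Opens T) {M N : MD O} (φ : gen U ⟶ M) (ψ : M ⟶ N) :
    genHomEquiv U N (φ ≫ ψ) = ((toP O).map ψ).app (op U) (genHomEquiv U M φ) :=
  (congrArg PresheafOfModules.freeYonedaEquiv ((adj O).homEquiv_naturality_right φ ψ)).trans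
    (PresheafOfModules.freeYonedaEquiv_comp _ _)

theorem isSeparating_gen : ObjectProperty.IsSeparating (ObjectProperty.ofObj (gen (O := O))) := by
  intro M N f g h
  apply (toP O).map_injective
  refine PresheafOfModules.freeYoneda.isSeparating _ _ _ ?_
  rintro _ ⟨U⟩ k
  have := congrArg ((adj O).homEquiv _ _) (h (gen U) ⟨U⟩ (((adj O).homEquiv _ _).symm k))
  exact ((congrArg (· ≫ _) (((adj O).homEquiv _ M).apply_symm_apply k)).symm.trans
    (((adj O).homEquiv_naturality_right _ f).symm.trans
    (this.trans ((adj O).homEquiv_naturality_right _ g)))).trans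
      (congrArg (· ≫ _) (((adj O).homEquiv _ M).apply_symm_apply k))

/-- The tautological section of the presheaf generator. -/
noncomputable def preSec (U : Opens T) : (preGen (O := O) U).obj (op U) :=
  ModuleCat.freeMk (R := (O.obj ⋙ forget₂ CommRingCat RingCat.{u}).obj (op U)) (𝟙 U)

lemma res_preSec {U V : Opens T} (h : V ≤ U) :
    res (preGen (O := O) U) h (preSec U) =
      ModuleCat.freeMk (R := (O.obj ⋙ forget₂ CommRingCat RingCat.{u}).obj (op V)) (homOfLE h) := by
  refine (ModuleCat.freeDesc_apply _ _).trans ?_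
  exact congrArg ModuleCat.freeMk (Subsingleton.elim (α := V ⟶ U) _ _)

variable {U : Opens T}

lemma germ_mem_span (hxU : x ∈ U) (a : st x (preGen (O := O) U)) :
    ∃ c : Ox O x, a = c • germ hxU (preSec U) := by
  obtain ⟨V, hV, p, rfl⟩ := exists_germ a
  revert p
  refine fun p => Finsupp.induction_linear (motive := fun p : (V ⟶ U) →₀ RU O V =>
    ∃ c : Ox O x, germ hV (show (preGen (O := O) U).obj (op V) from p) = c • germ hxU (preSec U)) p
    ⟨0, (map_zero (TopCat.Presheaf.germ (preGen (O := O) U).presheaf V x hV).hom).trans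
      (zero_smul _ _).symm⟩ ?_ ?_
  · rintro a b ⟨c, hc⟩ ⟨d, hd⟩
    exact ⟨c + d, (map_add (TopCat.Presheaf.germ (preGen (O := O) U).presheaf V x hV).hom _ _).trans
      ((congrArg₂ (· + ·) hc hd).trans (add_smul _ _ _).symm)⟩
  · intro i r
    refine ⟨rgerm hV r, ?_⟩
    have h : (show (preGen (O := O) U).obj (op V) from Finsupp.single i r) =
        r • res (preGen U) (leOfHom i) (preSec U) := by
      rw [res_preSec]
      exact ((Finsupp.smul_single' r i 1).trans (by rw [mul_one])).symm
    exact (congrArg (germ hV) h).trans ((germ_smul hV r _).trans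
      (congrArg (rgerm hV r • ·) (germ_res (leOfHom i) hV _)))

lemma smul_preSec_injective (hxU : x ∈ U) (c : Ox O x)
    (h : c • germ hxU (preSec (O := O) U) = 0) : c = 0 := by
  obtain ⟨V₀, hV₀, r₀, rfl⟩ := TopCat.Presheaf.exists_germ_eq O.obj c
  let V := V₀ ⊓ U
  have hV : x ∈ V := ⟨hV₀, hxU⟩
  let r : RU O V := resR inf_le_left r₀
  let p : (preGen (O := O) U).obj (op V) := res (preGen U) inf_le_right (preSec U)
  have hr : rgerm hV r = rgerm hV₀ r₀ := rgerm_res inf_le_left hV r₀
  have h0 : germ hV (r • p) = germ hV (0 : (preGen (O := O) U).obj (op V)) :=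
    ((germ_smul hV r p).trans ((congrArg₂ (· • ·) hr (germ_res inf_le_right hV _)).trans h)).trans
      (map_zero (TopCat.Presheaf.germ (preGen (O := O) U).presheaf V x hV).hom).symm
  obtain ⟨W, hW, i, j, e⟩ := TopCat.Presheaf.germ_eq (preGen (O := O) U).presheaf x hV hV _ _ h0
  have e₁ : res (preGen U) (leOfHom i) (r • p) = 0 :=
    e.trans (map_zero ((preGen (O := O) U).presheaf.map j.op).hom)
  rw [res_smul] at e₁
  have e₂ : res (preGen U) (leOfHom i) p =
      ModuleCat.freeMk (R := (O.obj ⋙ forget₂ CommRingCat RingCat.{u}).obj (op W))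
        (homOfLE ((leOfHom i).trans inf_le_right : W ≤ U)) := by
    refine (congrArg (res (preGen U) (leOfHom i)) (res_preSec _)).trans ?_
    refine (ModuleCat.freeDesc_apply _ _).trans ?_
    exact congrArg ModuleCat.freeMk (Subsingleton.elim (α := W ⟶ U) _ _)
  rw [e₂] at e₁
  have e₃ : resR (leOfHom i) r = 0 := Finsupp.single_eq_zero.1
    (((Finsupp.smul_single' (resR (leOfHom i) r) (homOfLE ((leOfHom i).trans inf_le_right : W ≤ U))
      1).trans (by rw [mul_one])).symm.trans e₁)
  exact hr.symm.trans ((rgerm_res (leOfHom i) hW r).symm.trans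
    ((congrArg (rgerm hW) e₃).trans (map_zero (TopCat.Presheaf.germ O.obj W x hW).hom)))

lemma subsingleton_st_preGen (hxU : x ∉ U) : Subsingleton (st x (preGen (O := O) U)) :=
  ⟨fun a b => by
    have key : ∀ a : st x (preGen (O := O) U), a = 0 := fun a => by
      obtain ⟨V, hV, p, rfl⟩ := exists_germ a
      haveI : IsEmpty (V ⟶ U) := ⟨fun i => hxU (leOfHom i hV)⟩
      rw [show p = 0 from Subsingleton.elim (α := (V ⟶ U) →₀ RU O V) _ _]
      exact map_zero (TopCat.Presheaf.germ (preGen (O := O) U).presheaf V x hV).hom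
    rw [key a, key b]⟩

/-- The germ of the tautological section. -/
noncomputable def genGerm (hxU : x ∈ U) : (stk O x).obj (gen U) :=
  shStalkEquiv x (preGen U) (germ hxU (preSec U))

/-- The stalk of `gen U` at a point of `U` is free of rank one. -/
theorem bijective_smul_genGerm (hxU : x ∈ U) :
    Function.Bijective fun c : Ox O x => c • genGerm (O := O) hxU := by
  refine ⟨fun c d h => sub_eq_zero.1 (smul_preSec_injective hxU (c - d) ?_), fun a => ?_⟩
  · apply (shStalkEquiv x (preGen (O := O) U)).injective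
    rw [map_smul, sub_smul, map_zero]
    exact sub_eq_zero.2 h
  · obtain ⟨b, rfl⟩ := (shStalkEquiv x (preGen (O := O) U)).surjective a
    obtain ⟨c, rfl⟩ := germ_mem_span hxU b
    exact ⟨c, (map_smul (shStalkEquiv x (preGen (O := O) U)) c _).symm⟩

/-- The stalk of `gen U` outside `U` vanishes. -/
theorem subsingleton_stk_gen (hxU : x ∉ U) : Subsingleton ((stk O x).obj (gen U)) :=
  haveI := subsingleton_st_preGen (O := O) hxU
  (shStalkEquiv x (preGen (O := O) U)).symm.injective.subsingleton

lemma stk_map_genGerm {M : MD O} (φ : gen U ⟶ M) (hx : x ∈ U) :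
    (stk O x).map φ (genGerm hx) = germ hx (genHomEquiv U M φ) := by
  refine (congrArg (stMap ((toP O).map φ)) (stMap_germ (unitSh (preGen (O := O) U)) hx (preSec U))).trans ?_
  exact (stMap_germ ((toP O).map φ) hx _).trans rfl

end Groth.Agent.Lib.RingedMod.Stalk
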