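import Groth.Prelude.Def_HensSch
import Groth.Agent.Lib.RingedMod.Stalk
import Groth.Agent.Lib.DerivedOX.GenIso
import Mathlib.Algebra.Category.ModuleCat.ChangeOfRings
import Mathlib.RingTheory.Flat.Basic
import Mathlib.RingTheory.RingHom.Flat

/-!
# Inverse images of modules along morphisms of locally ringed spaces

* `pullbackStalkIso`: `(g^* M)_x = O_x ⊗_{O_{g x}} M_{g x}`;
* `preservesFiniteLimits_pullMod`: `g^*` is exact if `g` is flat on stalks.
-/

universe u

open CategoryTheory Limits Opposite TopologicalSpace AlgebraicGeometry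
open scoped TensorProduct

set_option linter.style.haveILetI false

namespace Groth.Agent.Lib.RingedMod.Pullback

open Groth.Agent.Lib.RingedMod.Stalk

variable {X Y : LocallyRingedSpace.{u}} (g : X ⟶ Y) (x : X)

local notation "pb" => _root_.HensSch.pullMod g
local notation "pf" => _root_.HensSch.pushMod g

/-- The stalk map of `g` on the stalks of the structure sheaves. -/
noncomputable abbrev sm : Ox Y.sheaf (g.base x) →+* Ox X.sheaf x := (g.stalkMap x).hom

/-- The stalk map of a pushforward. -/
noncomputable def pushStalkMap (N : MD X.sheaf) :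
    st (g.base x) ((toP Y.sheaf).obj ((pf).obj N)) →+ st x ((toP X.sheaf).obj N) :=
  (TopCat.Presheaf.stalkPushforward AddCommGrpCat.{u} g.base ((toP X.sheaf).obj N).presheaf x).hom

lemma pushStalkMap_germ (N : MD X.sheaf) {U : Opens Y} (hx : g.base x ∈ U)
    (n : ((toP Y.sheaf).obj ((pf).obj N)).obj (op U)) :
    pushStalkMap g x N (germ hx n) =
      germ (P := (toP X.sheaf).obj N) (U := (Opens.map g.base).obj U) hx n :=
  TopCat.Presheaf.stalkPushforward_germ_apply AddCommGrpCat.{u} g.base ((toP X.sheaf).obj N).presheaf U x hx n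

lemma pushStalkMap_natural {N N' : MD X.sheaf} (φ : N ⟶ N')
    (a : st (g.base x) ((toP Y.sheaf).obj ((pf).obj N))) :
    pushStalkMap g x N' (stMap ((toP Y.sheaf).map ((pf).map φ)) a) =
      stMap ((toP X.sheaf).map φ) (pushStalkMap g x N a) := by
  obtain ⟨U, hU, s, rfl⟩ := exists_germ a
  rw [stMap_germ, pushStalkMap_germ, pushStalkMap_germ]
  exact (stMap_germ ((toP X.sheaf).map φ) (U := (Opens.map g.base).obj U) hU s).symm

lemma pushStalkMap_smul (N : MD X.sheaf) (c : Ox Y.sheaf (g.base x))
    (a : st (g.base x) ((toP Y.sheaf).obj ((pf).obj N))) :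
    pushStalkMap g x N (c • a) = sm g x c • pushStalkMap g x N a := by
  obtain ⟨U, hU, r, s, hr, hs⟩ := exists_rgerm c a
  have hsm : germ hU (r • s) = c • a := (germ_smul hU r s).trans (congrArg₂ (· • ·) hr hs)
  rw [← hsm, ← hs, ← hr]
  refine (pushStalkMap_germ g x N hU _).trans ?_
  refine Eq.trans ?_ (congrArg (sm g x (rgerm hU r) • ·) (pushStalkMap_germ g x N hU s).symm)
  refine Eq.trans ?_ (congrArg (· • _) (LocallyRingedSpace.stalkMap_germ_apply g U x hU r).symm)
  exact germ_smul (P := (toP X.sheaf).obj N) (x := x) (U := (Opens.map g.base).obj U) hU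
    ((g.c.app (op U)).hom r) _

/-- The semilinear map `M_{g x} → (g^* M)_x`. -/
noncomputable def unitStalk (M : MD Y.sheaf) :
    (stk Y.sheaf (g.base x)).obj M ⟶
      (ModuleCat.restrictScalars (sm g x)).obj ((stk X.sheaf x).obj ((pb).obj M)) :=
  ModuleCat.ofHom (Y := (ModuleCat.restrictScalars (sm g x)).obj ((stk X.sheaf x).obj ((pb).obj M)))
    { toFun := fun a => pushStalkMap g x _
        (stMap ((toP Y.sheaf).map ((_root_.HensSch.pullPushAdj g).unit.app M)) a)
      map_add' := fun a b => (congrArg (pushStalkMap g x _) (map_add _ a b)).trans (map_add _ _ _)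
      map_smul' := fun c a =>
        (congrArg (pushStalkMap g x _) (map_smul _ c a)).trans (pushStalkMap_smul g x _ c _) }

lemma unitStalk_natural {M M' : MD Y.sheaf} (φ : M ⟶ M') :
    (stk Y.sheaf (g.base x)).map φ ≫ unitStalk g x M' =
      unitStalk g x M ≫ (ModuleCat.restrictScalars (sm g x)).map ((stk X.sheaf x).map ((pb).map φ)) := by
  ext a
  change pushStalkMap g x _ (stMap _ (stMap ((toP Y.sheaf).map φ) a)) =
    stMap ((toP X.sheaf).map ((pb).map φ)) (pushStalkMap g x _ (stMap _ a))
  rw [← pushStalkMap_natural]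
  refine congrArg (pushStalkMap g x _) ?_
  rw [← stMap_comp, ← stMap_comp]
  exact congrArg (fun ψ => stMap ((toP Y.sheaf).map ψ) a)
    ((_root_.HensSch.pullPushAdj g).unit.naturality φ)

/-- The comparison `O_x ⊗ M_{g x} → (g^* M)_x`. -/
noncomputable def comparison :
    stk Y.sheaf (g.base x) ⋙ ModuleCat.extendScalars.{u, u, u} (sm g x) ⟶ pb ⋙ stk X.sheaf x where
  app M := ((ModuleCat.extendRestrictScalarsAdj.{u} (sm g x)).homEquiv _ _).symm (unitStalk g x M)
  naturality M M' φ := by
    refine ((ModuleCat.extendRestrictScalarsAdj.{u} (sm g x)).homEquiv_naturality_left_symm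
      _ _).symm.trans (Eq.trans ?_
      ((ModuleCat.extendRestrictScalarsAdj.{u} (sm g x)).homEquiv_naturality_right_symm _ _))
    exact congrArg _ (unitStalk_natural g x φ)

lemma comparison_one_tmul (M : MD Y.sheaf) (a : (stk Y.sheaf (g.base x)).obj M) :
    letI : Algebra (Ox Y.sheaf (g.base x)) (Ox X.sheaf x) := (sm g x).toAlgebra
    (comparison g x).app M ((1 : Ox X.sheaf x) ⊗ₜ[Ox Y.sheaf (g.base x)] a) =
      pushStalkMap g x _ (stMap ((toP Y.sheaf).map ((_root_.HensSch.pullPushAdj g).unit.app M)) a) := by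
  refine (ModuleCat.extendRestrictScalarsAdj_homEquiv_apply.{u} ((comparison g x).app M) a).symm.trans ?_
  exact congrArg (fun ψ : (stk Y.sheaf (g.base x)).obj M ⟶ _ => ψ a)
    (Equiv.apply_symm_apply _ (unitStalk g x M))

/-- `Hom(g^* gen U, N) = Hom(gen g⁻¹U, N)`. -/
noncomputable def pbGenEquiv (U : Opens Y) (N : MD X.sheaf) :
    ((pb).obj (gen U) ⟶ N) ≃ (gen ((Opens.map g.base).obj U) ⟶ N) :=
  (((_root_.HensSch.pullPushAdj g).homEquiv (gen U) N).trans
    (genHomEquiv U ((pf).obj N))).trans (genHomEquiv ((Opens.map g.base).obj U) N).symm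

lemma pbGenEquiv_comp (U : Opens Y) {N N' : MD X.sheaf} (φ : (pb).obj (gen U) ⟶ N) (ψ : N ⟶ N') :
    pbGenEquiv g U N' (φ ≫ ψ) = pbGenEquiv g U N φ ≫ ψ := by
  refine (genHomEquiv ((Opens.map g.base).obj U) N').injective ?_
  refine ((genHomEquiv ((Opens.map g.base).obj U) N').apply_symm_apply _).trans (Eq.trans ?_
    (genHomEquiv_comp ((Opens.map g.base).obj U) _ ψ).symm)
  refine ((congrArg (genHomEquiv U ((pf).obj N'))
    ((_root_.HensSch.pullPushAdj g).homEquiv_naturality_right φ ψ)).trans
    (genHomEquiv_comp U _ ((pf).map ψ))).trans ?_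
  exact congrArg (((toP X.sheaf).map ψ).app (op ((Opens.map g.base).obj U)))
    ((genHomEquiv ((Opens.map g.base).obj U) N).apply_symm_apply _).symm

/-- `gen g⁻¹U ⟶ g^* gen U`. -/
noncomputable def genToPb (U : Opens Y) :
    gen (O := X.sheaf) ((Opens.map g.base).obj U) ⟶ (pb).obj (gen U) :=
  pbGenEquiv g U _ (𝟙 _)

instance isIso_genToPb (U : Opens Y) : IsIso (genToPb g U) := by
  have h1 : genToPb g U ≫ (pbGenEquiv g U _).symm (𝟙 _) = 𝟙 _ := by
    rw [genToPb, ← pbGenEquiv_comp, Category.id_comp, Equiv.apply_symm_apply]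
  refine ⟨(pbGenEquiv g U _).symm (𝟙 _), h1, (pbGenEquiv g U _).injective ?_⟩
  rw [pbGenEquiv_comp, Equiv.apply_symm_apply, Category.id_comp]
  rfl

theorem isIso_comparison_gen (U : Opens Y) : IsIso ((comparison g x).app (gen U)) := by
  letI : Algebra (Ox Y.sheaf (g.base x)) (Ox X.sheaf x) := (sm g x).toAlgebra
  rw [ConcreteCategory.isIso_iff_bijective]
  let e := ((stk X.sheaf x).mapIso (asIso (genToPb g U))).toLinearEquiv
  by_cases hx : g.base x ∈ U
  · have hx' : x ∈ (Opens.map g.base).obj U := hx
    let w : Ox X.sheaf x → Ox X.sheaf x ⊗[Ox Y.sheaf (g.base x)] (stk Y.sheaf (g.base x)).obj (gen U) :=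
      fun c => c ⊗ₜ genGerm hx
    have hw : Function.Surjective w := by
      intro t
      induction t using TensorProduct.induction_on with
      | zero => exact ⟨0, TensorProduct.zero_tmul _ _⟩
      | tmul c a =>
        obtain ⟨r, rfl⟩ := (bijective_smul_genGerm hx).2 a
        exact ⟨r • c, TensorProduct.smul_tmul r c (genGerm hx)⟩
      | add s t hs ht =>
        obtain ⟨a, rfl⟩ := hs
        obtain ⟨b, rfl⟩ := ht
        exact ⟨a + b, TensorProduct.add_tmul _ _ _⟩
    have key : ∀ c : Ox X.sheaf x,
        (comparison g x).app (gen U) (w c) = e (c • genGerm (O := X.sheaf) hx') := by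
      intro c
      have h1 : (comparison g x).app (gen U) (w 1) = e (genGerm (O := X.sheaf) hx') := by
        refine (comparison_one_tmul g x (gen U) (genGerm hx)).trans ?_
        refine (congrArg (pushStalkMap g x _) (stk_map_genGerm _ hx)).trans ?_
        refine (pushStalkMap_germ g x _ hx _).trans ?_
        refine Eq.trans ?_ (stk_map_genGerm (genToPb g U) hx').symm
        refine congrArg _ ?_
        refine Eq.trans ?_ ((genHomEquiv ((Opens.map g.base).obj U) _).apply_symm_apply _).symm
        refine congrArg (genHomEquiv U _) ?_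
        exact ((_root_.HensSch.pullPushAdj g).homEquiv_id _).symm
      rw [map_smul, ← h1]
      have : w c = c • w 1 := by
        change c ⊗ₜ _ = c • ((1 : Ox X.sheaf x) ⊗ₜ _)
        rw [TensorProduct.smul_tmul', smul_eq_mul, mul_one]
      rw [this]
      exact map_smul ((comparison g x).app (gen U)).hom c (w 1)
    have hb : Function.Bijective fun c => (comparison g x).app (gen U) (w c) := by
      have hk := funext key
      exact hk ▸ e.bijective.comp (bijective_smul_genGerm hx')
    exact (Function.Bijective.of_comp_iff _ ⟨fun a b h => hb.1 (congrArg _ h), hw⟩).1 hb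
  · have hx' : x ∉ (Opens.map g.base).obj U := hx
    haveI := subsingleton_stk_gen (O := Y.sheaf) hx
    haveI := subsingleton_stk_gen (O := X.sheaf) hx'
    haveI : Subsingleton ((stk X.sheaf x).obj ((pb).obj (gen U))) := e.symm.injective.subsingleton
    haveI : Subsingleton (Ox X.sheaf x ⊗[Ox Y.sheaf (g.base x)] (stk Y.sheaf (g.base x)).obj (gen U)) :=
      subsingleton_of_forall_eq 0 fun t => by
        induction t using TensorProduct.induction_on with
        | zero => rfl
        | tmul c a => rw [Subsingleton.elim a 0, TensorProduct.tmul_zero]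
        | add s t hs ht => rw [hs, ht, add_zero]
    exact ⟨fun a b _ => Subsingleton.elim
      (α := Ox X.sheaf x ⊗[Ox Y.sheaf (g.base x)] (stk Y.sheaf (g.base x)).obj (gen U)) a b,
      fun b => ⟨0, Subsingleton.elim (α := (stk X.sheaf x).obj ((pb).obj (gen U))) _ b⟩⟩

instance isIso_comparison : IsIso (comparison g x) := by
  haveI : (ModuleCat.extendScalars.{u, u, u} (sm g x)).IsLeftAdjoint :=
    (ModuleCat.extendRestrictScalarsAdj.{u} (sm g x)).isLeftAdjoint
  haveI : PreservesColimitsOfSize.{u, u} (ModuleCat.extendScalars.{u, u, u} (sm g x)) :=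
    (ModuleCat.extendRestrictScalarsAdj.{u} (sm g x)).leftAdjoint_preservesColimits
  haveI : PreservesColimitsOfSize.{u, u} (pb) :=
    (_root_.HensSch.pullPushAdj g).leftAdjoint_preservesColimits
  haveI := PreservesColimitsOfSize.preservesFiniteColimits (pb ⋙ stk X.sheaf x)
  haveI := PreservesColimitsOfSize.preservesFiniteColimits
    (stk Y.sheaf (g.base x) ⋙ ModuleCat.extendScalars.{u, u, u} (sm g x))
  haveI : (pb).Additive := (_root_.HensSch.pullPushAdj g).left_adjoint_additive
  haveI : (ModuleCat.extendScalars.{u, u, u} (sm g x)).Additive :=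
    (ModuleCat.extendRestrictScalarsAdj.{u} (sm g x)).left_adjoint_additive
  exact DerivedOX.GenIso.isIso_of_isSeparating (isSeparating_gen (O := Y.sheaf)) _ (isIso_comparison_gen g x)

/-- `(g^* M)_x = O_x ⊗_{O_{g x}} M_{g x}`, natural in `M`. -/
noncomputable def pullbackStalkIso :
    stk Y.sheaf (g.base x) ⋙ ModuleCat.extendScalars.{u, u, u} (sm g x) ≅ pb ⋙ stk X.sheaf x :=
  asIso (comparison g x)

/-- Inverse image along a morphism which is flat on stalks preserves monomorphisms. -/
theorem mono_pullMod_map (hg : ∀ x, (sm g x).Flat) {M N : MD Y.sheaf} (f : M ⟶ N) [Mono f] :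
    Mono ((pb).map f) := by
  refine (mono_iff_stk _).mpr fun x => ?_
  haveI : Mono ((stk Y.sheaf (g.base x) ⋙ ModuleCat.extendScalars.{u, u, u} (sm g x)).map f) := by
    rw [Functor.comp_map, ModuleCat.mono_iff_injective]
    letI := (sm g x).toAlgebra
    haveI : Module.Flat (Ox Y.sheaf (g.base x)) (Ox X.sheaf x) := hg x
    exact Module.Flat.lTensor_preserves_injective_linearMap ((stk Y.sheaf (g.base x)).map f).hom
      ((ModuleCat.mono_iff_injective _).mp inferInstance)
  have e := (pullbackStalkIso g x).hom.naturality f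
  have : (stk X.sheaf x).map ((pb).map f) =
      (pullbackStalkIso g x).inv.app M ≫
        (stk Y.sheaf (g.base x) ⋙ ModuleCat.extendScalars.{u, u, u} (sm g x)).map f ≫
          (pullbackStalkIso g x).hom.app N := by
    rw [e, Iso.inv_hom_id_app_assoc]
    rfl
  rw [this]
  infer_instance

/-- Inverse image along a morphism which is flat on stalks is exact. -/
theorem preservesFiniteLimits_pullMod (hg : ∀ x, (sm g x).Flat) : PreservesFiniteLimits (pb) := by
  haveI : PreservesColimitsOfSize.{u, u} (pb) :=
    (_root_.HensSch.pullPushAdj g).leftAdjoint_preservesColimits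
  haveI : PreservesFiniteColimits (pb) := PreservesColimitsOfSize.preservesFiniteColimits _
  haveI : (pb).Additive := (_root_.HensSch.pullPushAdj g).left_adjoint_additive
  haveI : (pb).PreservesMonomorphisms := ⟨fun f _ => mono_pullMod_map g hg f⟩
  haveI := Functor.preservesHomology_of_preservesMonos_and_cokernels (pb)
  exact Functor.preservesFiniteLimits_of_preservesHomology (pb)

end Groth.Agent.Lib.RingedMod.Pullback
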